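import Groth.Agent.Nagata.Unramified
import Groth.Agent.Nagata.Reduced
import Groth.Agent.Nagata.PowerSeries
import Groth.Agent.SpQS.FieldImm
import Groth.Agent.NormCoker.Basic
import Mathlib.RingTheory.Finiteness.Descent

/-!
Generically étale over an analytically unramified local ring: normalization is finite.
-/

set_option autoImplicit false
set_option backward.isDefEq.respectTransparency false
set_option backward.isDefEq.respectTransparency.types false
set_option linter.style.haveILetI false
set_option maxHeartbeats 1000000

universe u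

open scoped TensorProduct
open IsLocalRing AlgebraicGeometry CategoryTheory

noncomputable section

namespace Groth.Agent.ResolveUnram

theorem isReduced_tensor_etale (S A R : Type u) [CommRing A] [CommRing S] [CommRing R] [Algebra A S] [Algebra A R]
    [_root_.IsReduced S] [Algebra.Etale A R] : _root_.IsReduced (S ⊗[A] R) := by
  haveI : Etale (Spec.map (CommRingCat.ofHom (algebraMap S (S ⊗[A] R)))) :=
    (HasRingHomProperty.Spec_iff (P := @Etale)).2 (RingHom.etale_algebraMap.2 inferInstance)
  haveI : _root_.IsReduced ↥(CommRingCat.of S) := inferInstanceAs (_root_.IsReduced S)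
  haveI := SpQS.isReduced_of_etale_reduced (Spec.map (CommRingCat.ofHom (algebraMap S (S ⊗[A] R))))
  exact (affine_isReduced_iff (CommRingCat.of (S ⊗[A] R))).1 this

theorem reduced_of_equiv {X Y : Type u} [CommRing X] [CommRing Y] (e : X ≃+* Y) (h : _root_.IsReduced Y) :
    _root_.IsReduced X := by
  haveI := h
  exact isReduced_of_injective e.toRingHom e.injective

theorem finite_of_injective_closure {C W M : Type u} [CommRing C] [CommRing W] [Algebra C W] [AddCommGroup M] [Module C M]
    (hC : CAlg.IsNagata C) [_root_.IsReduced W] [Algebra.EssFiniteType C W] (g : M →ₗ[C] integralClosure C W)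
    (hg : Function.Injective g) : Module.Finite C M := by
  haveI := hC.1
  haveI : Module.Finite C (integralClosure C W) := Nagata.finite_closure_reduced hC
  haveI : _root_.IsNoetherian C (integralClosure C W) := isNoetherian_of_isNoetherianRing_of_finite _ _
  exact Module.Finite.of_injective g hg

theorem finite_closure {A : Type u} [CommRing A] [IsLocalRing A] [IsNoetherianRing A]
    (hred : _root_.IsReduced (AdicCompletion (maximalIdeal A) A))
    (B R K : Type u) [CommRing B] [CommRing R] [Field K] [Algebra A B] [Algebra.FiniteType A B] [Algebra B K]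
    [Algebra A K] [IsScalarTower A B K] [IsFractionRing B K] [Algebra A R] [Algebra.Etale A R] [Algebra R K]
    [IsScalarTower A R K] [IsFractionRing R K] : Module.Finite B (integralClosure B K) := by
  let S := AdicCompletion (maximalIdeal A) A
  haveI : IsAdicComplete (maximalIdeal S) S :=
    inferInstanceAs (IsAdicComplete (maximalIdeal (AdicCompletion (maximalIdeal A) A)) (AdicCompletion (maximalIdeal A) A))
  have hS : CAlg.IsNagata S := Nagata.isNagata_of_complete S
  haveI : Module.FaithfullyFlat A S := Module.FaithfullyFlat.of_flat_of_isLocalHom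
  let C := B ⊗[A] S
  letI : Algebra S C := Algebra.TensorProduct.rightAlgebra
  haveI : Algebra.FiniteType S C :=
    Algebra.FiniteType.of_surjective (R := S) (A := S ⊗[A] B) (B := C)
      { (Algebra.TensorProduct.comm A S B).toRingHom with
        commutes' := fun s => by
          show Algebra.TensorProduct.comm A S B (s ⊗ₜ[A] 1) = (1 : B) ⊗ₜ[A] s
          rw [Algebra.TensorProduct.comm_tmul] }
      (Algebra.TensorProduct.comm A S B).surjective
  have hC : CAlg.IsNagata C := Nagata.isNagata_of_finiteType (R := S) hS
  haveI := hC.1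
  haveI : Module.FaithfullyFlat B C := inferInstance
  let W := C ⊗[B] K
  haveI : Algebra.EssFiniteType B K := Algebra.EssFiniteType.of_isLocalization K (nonZeroDivisors B)
  haveI : Algebra.EssFiniteType C W := inferInstance
  haveI : _root_.IsReduced W := by
    let e1 : W ≃+* (K ⊗[A] S) :=
      (Algebra.TensorProduct.comm B C K).toRingEquiv.trans (Algebra.TensorProduct.cancelBaseChange A B K K S).toRingEquiv
    let e2 : (K ⊗[A] S) ≃+* (K ⊗[R] (R ⊗[A] S)) :=
      (Algebra.TensorProduct.cancelBaseChange A R K K S).toRingEquiv.symm
    let P := R ⊗[A] S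
    haveI : _root_.IsReduced P := by
      haveI := isReduced_tensor_etale S A R
      exact isReduced_of_injective (Algebra.TensorProduct.comm A R S).toRingEquiv.toRingHom
        (Algebra.TensorProduct.comm A R S).injective
    haveI : _root_.IsReduced (P ⊗[R] K) :=
      @isReduced_localizationPreserves P _ (Algebra.algebraMapSubmonoid P (nonZeroDivisors R)) (P ⊗[R] K) _ _ _ inferInstance
    let e3 : (K ⊗[R] P) ≃+* (P ⊗[R] K) := (Algebra.TensorProduct.comm R K P).toRingEquiv
    exact reduced_of_equiv (X := W) (Y := P ⊗[R] K) ((e1.trans e2).trans e3) inferInstance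
  let j : C ⊗[B] (integralClosure B K) →ₐ[C] W :=
    Algebra.TensorProduct.map (AlgHom.id C C) (integralClosure B K).val
  have hj : Function.Injective j := by
    have h : Function.Injective (((integralClosure B K).val.toLinearMap).lTensor C) :=
      Module.Flat.lTensor_preserves_injective_linearMap _ Subtype.val_injective
    intro x y hxy
    apply h
    have he : ∀ z, j z = ((integralClosure B K).val.toLinearMap).lTensor C z := fun z => by
      induction z using TensorProduct.induction_on with
      | zero => simp
      | tmul a b => rfl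
      | add a b ha hb => rw [map_add, map_add, ha, hb]
    rwa [he, he] at hxy
  have hint : ∀ z, j z ∈ integralClosure C W := fun z => by
    induction z using TensorProduct.induction_on with
    | zero => rw [map_zero]; exact zero_mem _
    | add a b ha hb => rw [map_add]; exact add_mem ha hb
    | tmul c x =>
      show IsIntegral C (c ⊗ₜ[B] (x : K))
      have h1 : IsIntegral B ((1 : C) ⊗ₜ[B] (x : K)) :=
        (x.2 : IsIntegral B (x : K)).map (Algebra.TensorProduct.includeRight : K →ₐ[B] W)
      have h2 := (h1.tower_top (A := C)).smul c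
      rwa [TensorProduct.smul_tmul', smul_eq_mul, mul_one] at h2
  let j' : C ⊗[B] (integralClosure B K) →ₗ[C] integralClosure C W :=
    { toFun := fun z => ⟨j z, hint z⟩
      map_add' := fun x y => Subtype.ext (map_add j x y)
      map_smul' := fun c x => Subtype.ext (map_smul j c x) }
  haveI : Module.Finite C (C ⊗[B] (integralClosure B K)) :=
    finite_of_injective_closure hC j' fun x y h => hj (congrArg Subtype.val h)
  exact Module.Finite.of_finite_tensorProduct_of_faithfullyFlat C

open Opposite in
theorem isFinite_normalization_main (A : Type u) [CommRing A] [IsLocalRing A] [IsNoetherianRing A]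
    (hred : _root_.IsReduced (AdicCompletion (maximalIdeal A) A))
    (X : Scheme.{u}) [IsIntegral X] (f : X ⟶ Spec (CommRingCat.of A)) [LocallyOfFiniteType f] (U : X.Opens)
    (hU : genericPoint X ∈ U) [Etale (U.ι ≫ f)]
    [QuasiCompact (X.fromSpecStalk (genericPoint X))] [QuasiSeparated (X.fromSpecStalk (genericPoint X))] :
    IsFinite (Curv2.normalizationι X) := by
  let ν := Curv2.normalizationι X
  haveI : IsAffineHom ν := inferInstanceAs (IsAffineHom (X.fromSpecStalk (genericPoint X)).fromNormalization)
  refine { finite_app := fun V hV => ?_ }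
  letI := (ν.app V).hom.toAlgebra
  show Module.Finite Γ(X, V) Γ(Curv2.normalization X, ν ⁻¹ᵁ V)
  rcases isEmpty_or_nonempty V with hE | hne
  · haveI : Subsingleton Γ(Curv2.normalization X, ν ⁻¹ᵁ V) := ⟨fun a b =>
      TopCat.Presheaf.section_ext (Curv2.normalization X).sheaf _ a b fun z hz => (hE.false ⟨ν z, hz⟩).elim⟩
    infer_instance
  obtain ⟨U', hU', hηU', hU'U⟩ := exists_isAffineOpen_mem_and_subset (x := genericPoint X) (U := U) hU
  haveI : Nonempty U' := ⟨⟨_, hηU'⟩⟩
  haveI : IsAffine U'.toScheme := hU'
  haveI : Etale (U'.ι ≫ f) := by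
    rw [← X.homOfLE_ι (show U' ≤ U from hU'U), Category.assoc]
    infer_instance
  have hEt : RingHom.Etale (f.appLE ⊤ U' le_top).hom := by
    have h := (HasRingHomProperty.iff_of_isAffine (P := @Etale) (f := U'.ι ≫ f)).1 inferInstance
    have e : f.appLE ⊤ U' le_top = (U'.ι ≫ f).appTop ≫ U'.topIso.hom := by
      rw [Scheme.Hom.comp_appTop, Category.assoc, Scheme.Opens.ι_appTop, Scheme.Opens.topIso_hom,
        Scheme.Hom.appLE, ← Functor.map_comp]
      rfl
    rw [e, CommRingCat.hom_comp]
    exact RingHom.Etale.respectsIso.1 _ U'.topIso.commRingCatIsoToRingEquiv h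
  have hFT : RingHom.FiniteType (f.appLE ⊤ V le_top).hom :=
    HasRingHomProperty.appLE (P := @LocallyOfFiniteType) f inferInstance ⟨⊤, isAffineOpen_top _⟩ ⟨V, hV⟩ le_top
  let φ := (Scheme.ΓSpecIso (CommRingCat.of A)).inv
  letI algB : Algebra A Γ(X, V) := (φ ≫ f.appLE ⊤ V le_top).hom.toAlgebra
  letI algR : Algebra A Γ(X, U') := (φ ≫ f.appLE ⊤ U' le_top).hom.toAlgebra
  letI algK : Algebra A X.functionField := (φ ≫ f.appLE ⊤ V le_top ≫ X.germToFunctionField V).hom.toAlgebra
  haveI : IsScalarTower A Γ(X, V) X.functionField := IsScalarTower.of_algebraMap_eq fun _ => rfl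
  haveI : IsScalarTower A Γ(X, U') X.functionField := IsScalarTower.of_algebraMap_eq fun a => by
    have key : f.appLE ⊤ V le_top ≫ X.germToFunctionField V = f.appLE ⊤ U' le_top ≫ X.germToFunctionField U' := by
      simp only [Scheme.Hom.appLE, Scheme.germToFunctionField, Category.assoc, TopCat.Presheaf.germ_res]
    exact congrArg (fun m => m.hom (φ.hom a)) key
  haveI : Algebra.FiniteType A Γ(X, V) :=
    hFT.comp (RingHom.FiniteType.of_surjective _ (Scheme.ΓSpecIso (CommRingCat.of A)).commRingCatIsoToRingEquiv.symm.surjective)
  haveI : Algebra.Etale A Γ(X, U') := RingHom.etale_algebraMap.1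
    (RingHom.Etale.respectsIso.2 _ (Scheme.ΓSpecIso (CommRingCat.of A)).commRingCatIsoToRingEquiv.symm hEt)
  haveI := functionField_isFractionRing_of_isAffineOpen X V hV
  haveI := functionField_isFractionRing_of_isAffineOpen X U' hU'
  haveI := finite_closure hred Γ(X, V) Γ(X, U') X.functionField
  obtain ⟨e⟩ := NormCoker.exists_algEquiv X hV
  exact Module.Finite.equiv e.toLinearEquiv

end Groth.Agent.ResolveUnram
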