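import Groth.Agent.ResolveUnram.Basic
import Groth.Agent.N2Field.Basic
import Groth.Agent.Nagata.Unramified
import Groth.Agent.Nagata.Reduced
import Groth.Agent.Nagata.PowerSeries
import Groth.Agent.SpQS.FieldImm
import Groth.Agent.NormCoker.Basic
import Mathlib.RingTheory.Finiteness.Descent

/-!
Normal off the closed fibre after completion: normalization is finite.
-/

set_option autoImplicit false
set_option backward.isDefEq.respectTransparency false
set_option backward.isDefEq.respectTransparency.types false
set_option linter.style.haveILetI false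
set_option maxHeartbeats 1000000

universe u

open scoped TensorProduct
open IsLocalRing AlgebraicGeometry CategoryTheory

noncomputable section

namespace Groth.Agent.ResolveUnram

theorem finite_closure_of_reduced_tensor {A : Type u} [CommRing A] [IsLocalRing A] [IsNoetherianRing A]
    (B K : Type u) [CommRing B] [Field K] [Algebra A B] [Algebra.FiniteType A B] [Algebra B K] [IsFractionRing B K]
    (hW : _root_.IsReduced ((B ⊗[A] AdicCompletion (maximalIdeal A) A) ⊗[B] K)) :
    Module.Finite B (integralClosure B K) := by
  let S := AdicCompletion (maximalIdeal A) A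
  haveI : IsAdicComplete (maximalIdeal S) S :=
    inferInstanceAs (IsAdicComplete (maximalIdeal (AdicCompletion (maximalIdeal A) A)) (AdicCompletion (maximalIdeal A) A))
  have hS : CAlg.IsNagata S := Nagata.isNagata_of_complete S
  haveI : Module.FaithfullyFlat A S := Module.FaithfullyFlat.of_flat_of_isLocalHom
  let C := B ⊗[A] S
  letI : Algebra S C := Algebra.TensorProduct.rightAlgebra
  haveI : Algebra.FiniteType S C :=
    Algebra.FiniteType.of_surjective (R := S) (A := S ⊗[A] B) (B := C)
      { (Algebra.TensorProduct.comm A S B).toRingHom with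
        commutes' := fun s => by
          show Algebra.TensorProduct.comm A S B (s ⊗ₜ[A] 1) = (1 : B) ⊗ₜ[A] s
          rw [Algebra.TensorProduct.comm_tmul] }
      (Algebra.TensorProduct.comm A S B).surjective
  have hC : CAlg.IsNagata C := Nagata.isNagata_of_finiteType (R := S) hS
  haveI := hC.1
  haveI : Module.FaithfullyFlat B C := inferInstance
  let W := C ⊗[B] K
  haveI : Algebra.EssFiniteType B K := Algebra.EssFiniteType.of_isLocalization K (nonZeroDivisors B)
  haveI : Algebra.EssFiniteType C W := inferInstance
  haveI : _root_.IsReduced W := hW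
  let j : C ⊗[B] (integralClosure B K) →ₐ[C] W :=
    Algebra.TensorProduct.map (AlgHom.id C C) (integralClosure B K).val
  have hj : Function.Injective j := by
    have h : Function.Injective (((integralClosure B K).val.toLinearMap).lTensor C) :=
      Module.Flat.lTensor_preserves_injective_linearMap _ Subtype.val_injective
    intro x y hxy
    apply h
    have he : ∀ z, j z = ((integralClosure B K).val.toLinearMap).lTensor C z := fun z => by
      induction z using TensorProduct.induction_on with
      | zero => simp
      | tmul a b => rfl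
      | add a b ha hb => rw [map_add, map_add, ha, hb]
    rwa [he, he] at hxy
  have hint : ∀ z, j z ∈ integralClosure C W := fun z => by
    induction z using TensorProduct.induction_on with
    | zero => rw [map_zero]; exact zero_mem _
    | add a b ha hb => rw [map_add]; exact add_mem ha hb
    | tmul c x =>
      show IsIntegral C (c ⊗ₜ[B] (x : K))
      have h1 : IsIntegral B ((1 : C) ⊗ₜ[B] (x : K)) :=
        (x.2 : IsIntegral B (x : K)).map (Algebra.TensorProduct.includeRight : K →ₐ[B] W)
      have h2 := (h1.tower_top (A := C)).smul c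
      rwa [TensorProduct.smul_tmul', smul_eq_mul, mul_one] at h2
  let j' : C ⊗[B] (integralClosure B K) →ₗ[C] integralClosure C W :=
    { toFun := fun z => ⟨j z, hint z⟩
      map_add' := fun x y => Subtype.ext (map_add j x y)
      map_smul' := fun c x => Subtype.ext (map_smul j c x) }
  haveI : Module.Finite C (C ⊗[B] (integralClosure B K)) :=
    finite_of_injective_closure hC j' fun x y h => hj (congrArg Subtype.val h)
  exact Module.Finite.of_finite_tensorProduct_of_faithfullyFlat C

open Limits in
open Opposite in
theorem isFinite_normalization_off (A : Type u) [CommRing A] [IsLocalRing A] [IsNoetherianRing A]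
    (X : Scheme.{u}) [IsIntegral X] (f : X ⟶ Spec (CommRingCat.of A)) [LocallyOfFiniteType f]
    [QuasiCompact (X.fromSpecStalk (genericPoint X))] [QuasiSeparated (X.fromSpecStalk (genericPoint X))]
    (hY : ∀ y : ↥(Curv2.bcCpl A f), (Curv2.bcCplSnd A f).base y ≠ IsLocalRing.closedPoint (Curv2.cpl A) →
      IsDomain ((Curv2.bcCpl A f).presheaf.stalk y) ∧ IsIntegrallyClosed ((Curv2.bcCpl A f).presheaf.stalk y)) :
    IsFinite (Curv2.normalizationι X) := by
  let ν := Curv2.normalizationι X
  haveI : IsAffineHom ν := inferInstanceAs (IsAffineHom (X.fromSpecStalk (genericPoint X)).fromNormalization)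
  refine { finite_app := fun V hV => ?_ }
  letI := (ν.app V).hom.toAlgebra
  show Module.Finite Γ(X, V) Γ(Curv2.normalization X, ν ⁻¹ᵁ V)
  rcases isEmpty_or_nonempty V with hE | hne
  · haveI : Subsingleton Γ(Curv2.normalization X, ν ⁻¹ᵁ V) := ⟨fun a b =>
      TopCat.Presheaf.section_ext (Curv2.normalization X).sheaf _ a b fun z hz => (hE.false ⟨ν z, hz⟩).elim⟩
    infer_instance
  have hFT : RingHom.FiniteType (f.appLE ⊤ V le_top).hom :=
    HasRingHomProperty.appLE (P := @LocallyOfFiniteType) f inferInstance ⟨⊤, isAffineOpen_top _⟩ ⟨V, hV⟩ le_top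
  let φ := (Scheme.ΓSpecIso (CommRingCat.of A)).inv
  letI algB : Algebra A Γ(X, V) := (φ ≫ f.appLE ⊤ V le_top).hom.toAlgebra
  haveI : Algebra.FiniteType A Γ(X, V) :=
    hFT.comp (RingHom.FiniteType.of_surjective _ (Scheme.ΓSpecIso (CommRingCat.of A)).commRingCatIsoToRingEquiv.symm.surjective)
  haveI := functionField_isFractionRing_of_isAffineOpen X V hV
  obtain ⟨e⟩ := NormCoker.exists_algEquiv X hV
  suffices H : Module.Finite Γ(X, V) (integralClosure Γ(X, V) X.functionField) from
    Module.Finite.equiv e.toLinearEquiv
  by_cases hm : ∀ a ∈ maximalIdeal A, algebraMap A Γ(X, V) a = 0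
  · let ρ : (A ⧸ maximalIdeal A) →+* Γ(X, V) := Ideal.Quotient.lift _ (algebraMap A Γ(X, V)) hm
    letI : Field (A ⧸ maximalIdeal A) := Ideal.Quotient.field _
    letI : Algebra (A ⧸ maximalIdeal A) Γ(X, V) := ρ.toAlgebra
    haveI : IsScalarTower A (A ⧸ maximalIdeal A) Γ(X, V) := IsScalarTower.of_algebraMap_eq fun _ => rfl
    haveI : Algebra.FiniteType (A ⧸ maximalIdeal A) Γ(X, V) := Algebra.FiniteType.of_restrictScalars_finiteType A _ _
    exact N2Field.finite_integralClosure (A ⧸ maximalIdeal A) Γ(X, V) X.functionField X.functionField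
  push Not at hm
  obtain ⟨a, ha, ha0⟩ := hm
  let B := Γ(X, V)
  let S := Curv2.cpl A
  let C := B ⊗[A] S
  let W := C ⊗[B] X.functionField
  refine finite_closure_of_reduced_tensor (A := A) B X.functionField ?_
  refine isReduced_ofLocalizationMaximal W fun Q hQ => ?_
  let M := Algebra.algebraMapSubmonoid C (nonZeroDivisors B)
  haveI : IsLocalization M W := inferInstance
  let P : Ideal C := Q.comap (algebraMap C W)
  let g := Spec.map (CommRingCat.ofHom (algebraMap A S))
  have hi : hV.fromSpec ≫ f = Spec.map (CommRingCat.ofHom (algebraMap A B)) := by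
    rw [← IsAffineOpen.SpecMap_appLE_fromSpec f (isAffineOpen_top _) hV le_top, IsAffineOpen.fromSpec_top,
      Scheme.isoSpec_Spec_inv, ← Spec.map_comp]
    rfl
  let j : Spec (CommRingCat.of C) ⟶ Curv2.bcCpl A f :=
    (pullbackSpecIso A B S).inv ≫ (pullback.congrHom hi rfl).inv ≫
      (pullbackRightPullbackFstIso f g hV.fromSpec).inv ≫ pullback.snd _ _
  haveI : IsOpenImmersion j := inferInstance
  have hjsnd : j ≫ Curv2.bcCplSnd A f = Spec.map (CommRingCat.ofHom
      (Algebra.TensorProduct.includeRight : S →ₐ[A] C).toRingHom) := by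
    simp only [j, Category.assoc]
    rw [pullbackRightPullbackFstIso_inv_snd_snd]
    simp only [pullback.congrHom_inv, pullback.map, pullback.lift_snd, Category.comp_id]
    erw [pullback.lift_snd]
    exact pullbackSpecIso_inv_snd A B S
  let p : Spec (CommRingCat.of C) := ⟨P, inferInstanceAs (Q.comap (algebraMap C W)).IsPrime⟩
  have hy : (Curv2.bcCplSnd A f).base (j p) ≠ IsLocalRing.closedPoint S := by
    intro h
    rw [← Scheme.Hom.comp_apply, hjsnd] at h
    have h1 : algebraMap A S a ∈ maximalIdeal S := by
      haveI : IsLocalHom (algebraMap A S) := inferInstance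
      exact map_nonunit _ a ha
    have h2 : (1 : B) ⊗ₜ[A] algebraMap A S a ∈ P := by
      have := congrArg PrimeSpectrum.asIdeal h
      exact (this.ge h1 :)
    have h3 : (1 : B) ⊗ₜ[A] algebraMap A S a = algebraMap B C (algebraMap A B a) := by
      show _ = algebraMap A B a ⊗ₜ[A] (1 : S)
      rw [Algebra.algebraMap_eq_smul_one, Algebra.algebraMap_eq_smul_one, TensorProduct.tmul_smul,
        TensorProduct.smul_tmul']
    rw [h3] at h2
    have hu : IsUnit (algebraMap C W (algebraMap B C (algebraMap A B a))) :=
      IsLocalization.map_units W (⟨_, algebraMap A B a, mem_nonZeroDivisors_of_ne_zero ha0, rfl⟩ : M)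
    exact hQ.ne_top (Ideal.eq_top_of_isUnit_mem _ h2 hu)
  obtain ⟨hd, -⟩ := hY (j p) hy
  haveI := hd
  haveI : IsDomain ((Spec (CommRingCat.of C)).presheaf.stalk p) :=
    (asIso (j.stalkMap p)).commRingCatIsoToRingEquiv.symm.toMulEquiv.isDomain _
  haveI : IsDomain (Localization.AtPrime P) :=
    (AlgebraicGeometry.Spec.stalkIso (CommRingCat.of C) p).commRingCatIsoToRingEquiv.symm.toMulEquiv.isDomain _
  exact reduced_of_equiv (X := Localization.AtPrime Q) (Y := Localization.AtPrime P)
    (@IsLocalization.algEquiv C _ P.primeCompl (Localization.AtPrime Q) _ _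
      (IsLocalization.isLocalization_isLocalization_atPrime_isLocalization M (Localization.AtPrime Q) Q)
      (Localization.AtPrime P) _ _ _).toRingEquiv inferInstance

end Groth.Agent.ResolveUnram
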